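import Groth.Agent.ResProp.EF.K778.Kill
import Groth.Agent.ResProp.EF.K104.Adm

/-!
# `Grp.Kill H → TowerMod W → K104.Kill W (AdmP H)` (G5, node B4; helper778)
-/

set_option autoImplicit false

universe u w

open TensorProduct WithConv

noncomputable section

namespace Groth.Agent.ResProp.EF.K778

open Groth.Agent.ResProp.EF.Grp Groth.Agent.ResProp.EF.K104
open Groth.Agent.ResProp.EF.K208 (pts ptsHom)

variable {k : Type u} [CommRing k]

/-- The graded pieces of the tower `W` are (on flat algebras) the functors of points of comodules, and every lattice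
with a structure on `End` is a twist, compatibly with `θ`. -/
structure TowerMod (H : Gp k) (W : K104.Tower.{u, w} (pts H)) where
  /-- the comodules -/
  Q : W.Tw → ℕ → GMod H
  /-- points -/
  iso : ∀ (T : W.Tw) (j : ℕ), 1 ≤ j → j ≤ W.n → ∀ (B : Type u) [CommRing B] [Algebra k B] [Module.Flat k B],
    (Q T j).V ⊗[k] B ≃+ (W.Q T j).pt B
  iso_nat : ∀ (T : W.Tw) (j : ℕ) (h1 : 1 ≤ j) (h2 : j ≤ W.n) {B C : Type u} [CommRing B] [Algebra k B]
    [CommRing C] [Algebra k C] [Module.Flat k B] [Module.Flat k C] (f : B →ₐ[k] C) (x : (Q T j).V ⊗[k] B),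
    iso T j h1 h2 C (f.toLinearMap.lTensor (Q T j).V x) = (W.Q T j).map f (iso T j h1 h2 B x)
  iso_act : ∀ (T : W.Tw) (j : ℕ) (h1 : 1 ≤ j) (h2 : j ≤ W.n) (B : Type u) [CommRing B] [Algebra k B]
    [Module.Flat k B] (g : H.O →ₐ[k] B) (x : (Q T j).V ⊗[k] B),
    iso T j h1 h2 B (K208.actM (HopfRep.Comod.coact (k := k) (A := H.O) (V := (Q T j).V)) (toConv g) x) =
      (W.Q T j).act B (mkPt H g) (iso T j h1 h2 B x)
  tw : ∀ (T' : GMod H) (_ : IsLat T') (e : EndStr T') (T : W.Tw) (j : ℕ) (h1 : 1 ≤ j) (h2 : j ≤ W.n),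
    ∃ (t : W.Tw) (φ : ((Q T j).tens e.mod).V →ₗ[k] (Q (W.mul T t) j).V),
      @Hoch.IsComodHom k _ H.O _ _ _ ((Q T j).tens e.mod).V _ _ ((Q T j).tens e.mod).co
        (Q (W.mul T t) j).V _ _ (Q (W.mul T t) j).co φ ∧
      ∀ (B : Type u) [CommRing B] [Algebra k B] [Module.Flat k B] (x : (Q T j).V ⊗[k] B),
        (W.θ T t j).app B (iso T j h1 h2 B x) =
          iso (W.mul T t) j h1 h2 B ((φ ∘ₗ tmulR (Q T j) e.mod 1).rTensor B x)

section Lemmas

variable {E : Gp k} {B : Type u} [CommRing B] [Algebra k B]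

theorem gev2_d (N : GMod E) (g h : WithConv (E.O →ₐ[k] B)) (y : N.C 1) :
    ev2 (k := k) (A := E.O) N.V g.ofConv h.ofConv (N.d 1 y) =
      gact N g (ev1 N.V h.ofConv y) - ev1 (A := E.O) N.V (g * h).ofConv y + ev1 N.V g.ofConv y :=
  ev2_d N.V g h y

theorem gev3_d (N : GMod E) (g h l : WithConv (E.O →ₐ[k] B)) (z : N.C 2) :
    ev3 (k := k) (A := E.O) N.V g.ofConv h.ofConv l.ofConv (N.d 2 z) =
      gact N g (ev2 N.V h.ofConv l.ofConv z) - ev2 (A := E.O) N.V (g * h).ofConv l.ofConv z +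
        ev2 (A := E.O) N.V g.ofConv (h * l).ofConv z - ev2 N.V g.ofConv h.ofConv z :=
  ev3_d N.V g h l z

theorem ev2_cmap (M N : GMod E) (f : M.V →ₗ[k] N.V) (g h : E.O →ₐ[k] B) (z : M.C 2) :
    ev2 (k := k) (A := E.O) N.V g h (cmap M N f 2 z) = f.rTensor B (ev2 (A := E.O) M.V g h z) := by
  rw [map_ev2]
  rfl

theorem ev2_cres {E' : Gp k} (φ : E.O →ₐc[k] E'.O) (M : GMod E) (g h : E'.O →ₐ[k] B) (z : M.C 2) :
    ev2 (k := k) (A := E'.O) M.V g h (cres φ M 2 z) =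
      ev2 (A := E.O) M.V (g.comp (φ : E.O →ₐ[k] E'.O)) (h.comp (φ : E.O →ₐ[k] E'.O)) z := by
  rw [← ev2_map]
  rfl

theorem comod_ext {A V : Type u} [CommRing A] [Bialgebra k A] [AddCommGroup V] [Module k V]
    {c d : HopfRep.Comod k A V} (h : c.coact = d.coact) : c = d := by
  cases c; cases d
  simp only at h
  subst h
  rfl

theorem res_res_co {H E E' : Gp k} (ι : H.O →ₐc[k] E.O) (φ : E.O →ₐc[k] E'.O) (Q : GMod H) :
    ((Q.res ι).res φ).co = (Q.res (φ.comp ι)).co := by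
  apply comod_ext
  apply LinearMap.ext
  intro v
  change TensorProduct.map LinearMap.id (φ : E.O →ₗ[k] E'.O)
      (TensorProduct.map LinearMap.id (ι : H.O →ₗ[k] E.O) (Q.co.coact v)) =
    TensorProduct.map LinearMap.id ((φ.comp ι : H.O →ₐc[k] E'.O) : H.O →ₗ[k] E'.O) (Q.co.coact v)
  generalize Q.co.coact v = y
  induction y using TensorProduct.induction_on with
  | zero => simp
  | add x y hx hy => simp only [map_add, hx, hy]
  | tmul m a => rfl

/-- the action of points on `(Q.res ι).res φ ⊗ X.res` -/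
theorem gact_step {H E E' : Gp k} (ι : H.O →ₐc[k] E.O) (φ : E.O →ₐc[k] E'.O) (Q X : GMod H)
    (g : WithConv (E'.O →ₐ[k] B)) (y : (Q.V ⊗[k] X.V) ⊗[k] B) :
    gact (((Q.res ι).res φ).tens (X.res (φ.comp ι))) g y =
      gact (Q.tens X) (toConv (g.ofConv.comp ((φ.comp ι : H.O →ₐc[k] E'.O) : H.O →ₐ[k] E'.O))) y := by
  rw [← gact_tens_res]
  have hco : (((Q.res ι).res φ).tens (X.res (φ.comp ι))).co = ((Q.res (φ.comp ι)).tens (X.res (φ.comp ι))).co :=
    congrArg (fun c => ComodTens.Comod.tensor c (X.res (φ.comp ι)).co) (res_res_co ι φ Q)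
  exact congrArg (fun c : HopfRep.Comod k E'.O (Q.V ⊗[k] X.V) => @act k _ (Q.V ⊗[k] X.V) _ _ E'.O _ _ B _ _ c g.ofConv y)
    hco

end Lemmas

/-- **B4.** -/
theorem kill_of_towerMod (H : Gp k) (hK : Grp.Kill H) (W : K104.Tower.{u, w} (pts H)) (TM : TowerMod H W) :
    K104.Kill W (AdmP H) := by
  classical
  intro E p hEp T j hj1 hj2 c
  obtain ⟨E0, ι, hA, hE⟩ := hEp
  obtain ⟨rfl, hE⟩ := Sigma.mk.inj_iff.1 hE
  obtain rfl := eq_of_heq hE
  -- the universal element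
  let Q : GMod H := TM.Q T j
  let M : GMod E0 := Q.res ι
  let A := E0.O
  let cc : ∀ (B : Type u) [CommRing B] [Algebra k B], (A →ₐ[k] B) → (A →ₐ[k] B) → (W.Q T j).pt B :=
    fun B _ _ g h => c.c B (mkPt E0 g) (mkPt E0 h)
  let z : M.C 2 := (TensorProduct.assoc k Q.V A A).symm ((TM.iso T j hj1 hj2 (A ⊗[k] A)).symm
    (cc (A ⊗[k] A) Algebra.TensorProduct.includeLeft Algebra.TensorProduct.includeRight))
  have hz : ∀ (B : Type u) [CommRing B] [Algebra k B] [Module.Flat k B] (g h : A →ₐ[k] B),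
      TM.iso T j hj1 hj2 B (ev2 (k := k) (A := A) Q.V g h z) = cc B g h := by
    intro B _ _ _ g h
    have e1 : ev2 (k := k) (A := A) Q.V g h z =
        (Algebra.TensorProduct.lift g h (fun _ _ => .all ..)).toLinearMap.lTensor Q.V
          (ev2 (k := k) (A := A) Q.V Algebra.TensorProduct.includeLeft Algebra.TensorProduct.includeRight z) := by
      have hl : (Algebra.TensorProduct.lift g h (fun _ _ => .all ..)).comp
          (Algebra.TensorProduct.includeLeft : A →ₐ[k] A ⊗[k] A) = g := by ext; simp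
      have hr : (Algebra.TensorProduct.lift g h (fun _ _ => .all ..)).comp
          (Algebra.TensorProduct.includeRight : A →ₐ[k] A ⊗[k] A) = h := by ext; simp
      rw [lT_ev2, hl, hr]
    rw [e1, TM.iso_nat, ev2_univ]
    simp only [z, LinearEquiv.apply_symm_apply, AddEquiv.apply_symm_apply, cc]
    rw [← c.nat, map_mkPt, map_mkPt]
    congr 2
    · ext; simp
    · ext; simp
  -- it is a cocycle
  have hcoc : M.d 2 z = 0 := by
    apply ev3_univ_injective
    rw [map_zero]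
    have h3 := gev3_d (B := (A ⊗[k] A) ⊗[k] A) M
      (toConv ((Algebra.TensorProduct.includeLeft : (A ⊗[k] A) →ₐ[k] (A ⊗[k] A) ⊗[k] A).comp
        (Algebra.TensorProduct.includeLeft : A →ₐ[k] A ⊗[k] A)))
      (toConv ((Algebra.TensorProduct.includeLeft : (A ⊗[k] A) →ₐ[k] (A ⊗[k] A) ⊗[k] A).comp
        (Algebra.TensorProduct.includeRight : A →ₐ[k] A ⊗[k] A)))
      (toConv (Algebra.TensorProduct.includeRight : A →ₐ[k] (A ⊗[k] A) ⊗[k] A)) z
    refine h3.trans ?_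
    apply (TM.iso T j hj1 hj2 ((A ⊗[k] A) ⊗[k] A)).injective
    generalize toConv ((Algebra.TensorProduct.includeLeft : (A ⊗[k] A) →ₐ[k] (A ⊗[k] A) ⊗[k] A).comp
        (Algebra.TensorProduct.includeLeft : A →ₐ[k] A ⊗[k] A)) = g
    generalize toConv ((Algebra.TensorProduct.includeLeft : (A ⊗[k] A) →ₐ[k] (A ⊗[k] A) ⊗[k] A).comp
        (Algebra.TensorProduct.includeRight : A →ₐ[k] A ⊗[k] A)) = h
    generalize toConv (Algebra.TensorProduct.includeRight : A →ₐ[k] (A ⊗[k] A) ⊗[k] A) = l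
    have hact : ∀ x : Q.V ⊗[k] ((A ⊗[k] A) ⊗[k] A), TM.iso T j hj1 hj2 ((A ⊗[k] A) ⊗[k] A) (gact M g x) =
        (W.Q T j).act _ ((ptsHom ι).app _ g) (TM.iso T j hj1 hj2 ((A ⊗[k] A) ⊗[k] A) x) := by
      intro x
      have := TM.iso_act T j hj1 hj2 ((A ⊗[k] A) ⊗[k] A) (g.ofConv.comp (ι : H.O →ₐ[k] E0.O)) x
      rw [gact_res, ← gact_actM]
      exact this
    have hc : (W.Q T j).act ((A ⊗[k] A) ⊗[k] A) ((ptsHom ι).app _ g) (cc ((A ⊗[k] A) ⊗[k] A) h.ofConv l.ofConv) +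
        cc ((A ⊗[k] A) ⊗[k] A) g.ofConv (h * l).ofConv =
        cc ((A ⊗[k] A) ⊗[k] A) g.ofConv h.ofConv + cc ((A ⊗[k] A) ⊗[k] A) (g * h).ofConv l.ofConv :=
      c.cocycle ((A ⊗[k] A) ⊗[k] A) g h l
    rw [map_zero, map_sub, map_add, map_sub, hact]
    erw [hz, hz, hz, hz]
    rw [sub_add_eq_add_sub, hc]
    abel
  -- kill it
  obtain ⟨S, T', hT', e, b, hb⟩ := hK E0 ι hA M z hcoc
  obtain ⟨t, φ, hφ, hθ⟩ := TM.tw T' hT' e T j hj1 hj2
  let N : GMod S.E' := (M.res S.ι).tens (e.mod.res (S.ι.comp ι))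
  have hφN : ∀ (B : Type u) [CommRing B] [Algebra k B] (g : WithConv (S.E'.O →ₐ[k] B)) (y : N.V ⊗[k] B),
      φ.rTensor B (gact N g y) = gact (TM.Q (W.mul T t) j)
        (toConv (g.ofConv.comp ((S.ι.comp ι : H.O →ₐc[k] S.E'.O) : H.O →ₐ[k] S.E'.O))) (φ.rTensor B y) := by
    intro B _ _ g y
    have h1 := gact_step ι S.ι Q e.mod g y
    have h2 := @map_act k _ (Q.V ⊗[k] e.mod.V) (TM.Q (W.mul T t) j).V _ _ _ _ H.O _ _ B _ _
      (Q.tens e.mod).co (TM.Q (W.mul T t) j).co φ hφ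
      (g.ofConv.comp ((S.ι.comp ι : H.O →ₐc[k] S.E'.O) : H.O →ₐ[k] S.E'.O)) y
    exact (congrArg (φ.rTensor B) h1).trans h2
  refine ⟨pts S.E', ptsHom S.ι, t, AdmP.step hA S, fun B _ _ x => if h : Module.Flat k B then
    TM.iso (W.mul T t) j hj1 hj2 B (φ.rTensor B (ev1 (A := S.E'.O) N.V (WithConv.ofConv x) b)) else 0, ?_, ?_⟩
  · intro B C _ _ _ _ hB hC f x
    dsimp only
    rw [dif_pos hB, dif_pos hC, ← TM.iso_nat]
    congr 1
    have h1 : ∀ y : N.V ⊗[k] B, f.toLinearMap.lTensor (TM.Q (W.mul T t) j).V (φ.rTensor B y) =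
        φ.rTensor C (f.toLinearMap.lTensor N.V y) := by
      intro y
      induction y using TensorProduct.induction_on with
      | zero => simp
      | add x y hx hy => simp only [map_add, hx, hy]
      | tmul m a => rfl
    rw [h1, lT_ev1]
    rfl
  · intro B _ _ hB (g : WithConv (S.E'.O →ₐ[k] B)) (h : WithConv (S.E'.O →ₐ[k] B))
    dsimp only
    rw [dif_pos hB, dif_pos hB, dif_pos hB]
    have h1 : c.c B ((ptsHom S.ι).app B g) ((ptsHom S.ι).app B h) =
        TM.iso T j hj1 hj2 B (ev2 (k := k) (A := A) Q.V (AlgHom.comp (WithConv.ofConv g) (S.ι : E0.O →ₐ[k] S.E'.O))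
          (AlgHom.comp (WithConv.ofConv h) (S.ι : E0.O →ₐ[k] S.E'.O)) z) := (hz B _ _).symm
    have h2 : (tmulR Q e.mod 1).rTensor B (ev2 (k := k) (A := A) Q.V
          (AlgHom.comp (WithConv.ofConv g) (S.ι : E0.O →ₐ[k] S.E'.O))
          (AlgHom.comp (WithConv.ofConv h) (S.ι : E0.O →ₐ[k] S.E'.O)) z) =
        gact N g (ev1 (A := S.E'.O) N.V (WithConv.ofConv h) b) -
          ev1 (A := S.E'.O) N.V (WithConv.ofConv (g * h)) b +
          ev1 (A := S.E'.O) N.V (WithConv.ofConv g) b := by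
      refine Eq.trans ?_ (gev2_d N g h b)
      rw [hb, ev2_cmap]
      exact congrArg ((tmulR Q e.mod 1).rTensor B) (ev2_cres S.ι M (WithConv.ofConv g) (WithConv.ofConv h) z).symm
    rw [h1, hθ, LinearMap.rTensor_comp, LinearMap.comp_apply]
    refine (congrArg (fun y => TM.iso (W.mul T t) j hj1 hj2 B (φ.rTensor B y)) h2).trans ?_
    rw [map_add, map_sub]
    erw [hφN]
    rw [map_add, map_sub]
    congr 2
    have h3 := TM.iso_act (W.mul T t) j hj1 hj2 B
      ((WithConv.ofConv g).comp ((S.ι.comp ι : H.O →ₐc[k] S.E'.O) : H.O →ₐ[k] S.E'.O))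
      (φ.rTensor B (ev1 (A := S.E'.O) N.V (WithConv.ofConv h) b))
    rw [gact_actM] at h3
    exact h3

end Groth.Agent.ResProp.EF.K778
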