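import Groth.Agent.ResProp.EF.Grp

/-!
# Evaluation of Hochschild cochains at points (G5 seam, helper778)

`A` a commutative bialgebra over `k`, `M` a comodule, `B` a commutative `k`-algebra, `g, h, l : A →ₐ[k] B` points.
`rmul b`, `ev1 g`, `ev2 g h`, `ev3 g h l`, the action `act g` on `M ⊗ B`, and the formulas for `Hoch.d`.
-/

set_option autoImplicit false

universe u

open TensorProduct WithConv

noncomputable section

namespace Groth.Agent.ResProp.EF.K778

variable {k : Type u} [CommRing k]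

section Basic

variable (M : Type u) [AddCommGroup M] [Module k M] {A : Type u} [CommRing A] [Bialgebra k A]
  {B : Type u} [CommRing B] [Algebra k B]

/-- right multiplication on `M ⊗ B` -/
def rmul (b : B) : M ⊗[k] B →ₗ[k] M ⊗[k] B := (LinearMap.mulRight k b).lTensor M

@[simp] theorem rmul_tmul (b : B) (m : M) (b' : B) : rmul (k := k) M b (m ⊗ₜ b') = m ⊗ₜ (b' * b) := rfl

theorem rmul_one : rmul (k := k) M (1 : B) = LinearMap.id := by
  ext m b; simp

theorem rmul_rmul (b b' : B) (x : M ⊗[k] B) : rmul (k := k) M b (rmul M b' x) = rmul M (b' * b) x := by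
  induction x using TensorProduct.induction_on with
  | zero => simp
  | add x y hx hy => simp [hx, hy]
  | tmul m c => simp [mul_assoc]

/-- `rmul` as a bilinear map -/
def rmulL : M ⊗[k] B →ₗ[k] B →ₗ[k] M ⊗[k] B :=
  LinearMap.flip
    { toFun := fun b => rmul (k := k) M b
      map_add' := by intro b b'; ext m c; simp [mul_add, TensorProduct.tmul_add]
      map_smul' := by intro a b; ext m c; simp }

@[simp] theorem rmulL_apply (x : M ⊗[k] B) (b : B) : rmulL (k := k) M x b = rmul M b x := rfl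

/-- `x ⊗ a ↦ f x · h a` -/
def evS {X : Type u} [AddCommGroup X] [Module k X] (f : X →ₗ[k] M ⊗[k] B) (h : A →ₐ[k] B) :
    X ⊗[k] A →ₗ[k] M ⊗[k] B :=
  TensorProduct.lift ((LinearMap.lcomp k _ h.toLinearMap ∘ₗ rmulL (k := k) M) ∘ₗ f)

@[simp] theorem evS_tmul {X : Type u} [AddCommGroup X] [Module k X] (f : X →ₗ[k] M ⊗[k] B) (h : A →ₐ[k] B)
    (x : X) (a : A) : evS (k := k) M f h (x ⊗ₜ a) = rmul M (h a) (f x) := rfl

/-- evaluation of `1`-cochains -/
def ev1 (g : A →ₐ[k] B) : M ⊗[k] A →ₗ[k] M ⊗[k] B := evS M ((TensorProduct.mk k M B).flip 1) g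

@[simp] theorem ev1_tmul (g : A →ₐ[k] B) (m : M) (a : A) : ev1 (k := k) M g (m ⊗ₜ a) = m ⊗ₜ g a := by
  simp [ev1]

/-- evaluation of `2`-cochains -/
def ev2 (g h : A →ₐ[k] B) : (M ⊗[k] A) ⊗[k] A →ₗ[k] M ⊗[k] B := evS M (ev1 M g) h

/-- evaluation of `3`-cochains -/
def ev3 (g h l : A →ₐ[k] B) : ((M ⊗[k] A) ⊗[k] A) ⊗[k] A →ₗ[k] M ⊗[k] B := evS M (ev2 M g h) l

@[simp] theorem ev2_tmul (g h : A →ₐ[k] B) (x : M ⊗[k] A) (a : A) :
    ev2 (k := k) M g h (x ⊗ₜ a) = rmul M (h a) (ev1 M g x) := rfl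

@[simp] theorem ev3_tmul (g h l : A →ₐ[k] B) (x : (M ⊗[k] A) ⊗[k] A) (a : A) :
    ev3 (k := k) M g h l (x ⊗ₜ a) = rmul M (l a) (ev2 M g h x) := rfl

/-- product of points -/
theorem mul_apply_lift (g h : WithConv (A →ₐ[k] B)) (a : A) :
    (g * h).ofConv a = Algebra.TensorProduct.lift g.ofConv h.ofConv (fun _ _ => .all ..) (Coalgebra.comul (R := k) a) :=
  AlgHom.convMul_apply g h a

/-- `evS` on `x ⊗ (a ⊗ a')` re-bracketed -/
theorem evS_evS_assoc {X : Type u} [AddCommGroup X] [Module k X] (f : X →ₗ[k] M ⊗[k] B) (g h : A →ₐ[k] B) (x : X)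
    (t : A ⊗[k] A) : evS (k := k) M (evS M f g) h ((TensorProduct.assoc k X A A).symm (x ⊗ₜ t)) =
      rmul M (Algebra.TensorProduct.lift g h (fun _ _ => .all ..) t) (f x) := by
  induction t using TensorProduct.induction_on with
  | zero => simp [rmul]
  | add t t' ht ht' =>
    rw [TensorProduct.tmul_add, map_add, map_add, ht, ht', map_add]
    simp only [← rmulL_apply, map_add]
  | tmul a a' => simp [rmul_rmul]

variable [HopfRep.Comod k A M]

/-- the coaction -/
abbrev rho : M →ₗ[k] M ⊗[k] A := HopfRep.Comod.coact (k := k) (A := A) (V := M)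

/-- the action of a point on `M ⊗ B` -/
def act (g : A →ₐ[k] B) : M ⊗[k] B →ₗ[k] M ⊗[k] B :=
  TensorProduct.lift (rmulL (k := k) M ∘ₗ ev1 M g ∘ₗ rho M)

@[simp] theorem act_tmul (g : A →ₐ[k] B) (m : M) (b : B) :
    act (k := k) M g (m ⊗ₜ b) = rmul M b (ev1 M g (rho M m)) := rfl

theorem act_rmul (g : A →ₐ[k] B) (b : B) (x : M ⊗[k] B) : act (k := k) M g (rmul M b x) = rmul M b (act M g x) := by
  induction x using TensorProduct.induction_on with
  | zero => simp
  | add x y hx hy => simp [hx, hy]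
  | tmul m c => simp [rmul_rmul]

/-- `g · (f x h(a))` -/
theorem act_evS {X : Type u} [AddCommGroup X] [Module k X] (g : A →ₐ[k] B) (f : X →ₗ[k] M ⊗[k] B) (h : A →ₐ[k] B)
    (x : X ⊗[k] A) : act (k := k) M g (evS M f h x) = evS M (act M g ∘ₗ f) h x := by
  induction x using TensorProduct.induction_on with
  | zero => simp
  | add x y hx hy => simp [hx, hy]
  | tmul m c => simp [act_rmul]

theorem act_one (x : M ⊗[k] B) : act (k := k) M (A := A) (1 : WithConv (A →ₐ[k] B)).ofConv x = x := by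
  induction x using TensorProduct.induction_on with
  | zero => simp
  | add x y hx hy => rw [map_add, hx, hy]
  | tmul m b =>
    have h := LinearMap.congr_fun (HopfRep.Comod.counit_comp (k := k) (A := A) (V := M)) m
    have key : ∀ y : M ⊗[k] A, ev1 (k := k) M (1 : WithConv (A →ₐ[k] B)).ofConv y =
        (Algebra.linearMap k B).lTensor M ((CoalgebraStruct.counit (R := k) (A := A)).lTensor M y) := by
      intro y
      induction y using TensorProduct.induction_on with
      | zero => simp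
      | add x y hx hy => simp [hx, hy]
      | tmul m a =>
        rw [ev1_tmul, LinearMap.lTensor_tmul, LinearMap.lTensor_tmul]
        rfl
    rw [act_tmul, key]
    simp only [LinearMap.comp_apply, LinearMap.flip_apply, TensorProduct.mk_apply] at h
    erw [h]
    simp

/-- the two ways to act twice -/
theorem ev2_rho (g h : WithConv (A →ₐ[k] B)) (m : M) :
    ev2 (k := k) M g.ofConv h.ofConv ((rho (A := A) M).rTensor A (rho M m)) =
      ev1 M (g * h).ofConv (rho M m) := by
  have hc := LinearMap.congr_fun (HopfRep.Comod.coassoc (k := k) (A := A) (V := M)) m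
  simp only [LinearMap.coe_comp, Function.comp_apply, LinearEquiv.coe_coe] at hc
  have hc' : (rho (A := A) M).rTensor A (rho (k := k) M m) = (TensorProduct.assoc k M A A).symm
      ((CoalgebraStruct.comul (R := k) (A := A)).lTensor M (rho M m)) := by
    rw [LinearEquiv.eq_symm_apply]; exact hc
  rw [hc']
  generalize rho (k := k) (A := A) M m = y
  induction y using TensorProduct.induction_on with
  | zero => simp
  | add x y hx hy => simp only [map_add, hx, hy]
  | tmul m a =>
    rw [LinearMap.lTensor_tmul, ev2, ev1, evS_evS_assoc, ev1_tmul, mul_apply_lift]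
    simp

theorem act_act (g h : WithConv (A →ₐ[k] B)) (x : M ⊗[k] B) :
    act (k := k) M g.ofConv (act M h.ofConv x) = act M (g * h).ofConv x := by
  induction x using TensorProduct.induction_on with
  | zero => simp
  | add x y hx hy => simp only [map_add, hx, hy]
  | tmul m b =>
    rw [act_tmul, act_rmul, act_tmul, ← ev2_rho]
    congr 1
    generalize rho (k := k) (A := A) M m = y
    induction y using TensorProduct.induction_on with
    | zero => simp
    | add x y hx hy => simp only [map_add, hx, hy]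
    | tmul m a =>
      rw [ev1_tmul, act_tmul, LinearMap.rTensor_tmul, ev2_tmul]

/-- **degree `1`**: `(d y)(g, h) = g · y(h) - y(g h) + y(g)` -/
theorem ev2_d (g h : WithConv (A →ₐ[k] B)) (y : M ⊗[k] A) :
    ev2 (k := k) M g.ofConv h.ofConv (Hoch.d k A M 1 y) =
      act M g.ofConv (ev1 M h.ofConv y) - ev1 M (g * h).ofConv y + ev1 M g.ofConv y := by
  induction y using TensorProduct.induction_on with
  | zero => simp
  | add x y hx hy =>
    rw [map_add, map_add, hx, hy]; simp only [map_add]; abel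
  | tmul m a =>
    have e : (Hoch.d k A M 1 (m ⊗ₜ[k] a) : (M ⊗[k] A) ⊗[k] A) =
        (rho M m - m ⊗ₜ (1 : A)) ⊗ₜ a -
          (TensorProduct.assoc k M A A).symm (m ⊗ₜ (Coalgebra.comul (R := k) a - a ⊗ₜ 1 - 1 ⊗ₜ a)) := by
      change (Hoch.d k A M 0).rTensor A (m ⊗ₜ[k] a) + ((-1 : k) ^ (0 + 1)) • Hoch.tail k A M (m ⊗ₜ[k] a) = _
      have e1 : ((-1 : k) ^ (0 + 1)) = -1 := by norm_num
      have e2 := neg_one_smul k ((TensorProduct.assoc k M A A).symm
        (m ⊗ₜ (Coalgebra.comul (R := k) a - a ⊗ₜ 1 - 1 ⊗ₜ a)) : (M ⊗[k] A) ⊗[k] A)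
      rw [LinearMap.rTensor_tmul, Hoch.tail_tmul, e1]
      exact (congrArg (fun t : (M ⊗[k] A) ⊗[k] A => (Hoch.d k A M 0 m : M ⊗[k] A) ⊗ₜ[k] a + t) e2).trans
        (sub_eq_add_neg _ _).symm
    have t1 : ∀ t : A ⊗[k] A, ev2 (k := k) M g.ofConv h.ofConv ((TensorProduct.assoc k M A A).symm (m ⊗ₜ t)) =
        m ⊗ₜ Algebra.TensorProduct.lift g.ofConv h.ofConv (fun _ _ => .all ..) t := by
      intro t
      rw [ev2, ev1, evS_evS_assoc]; simp
    rw [e, map_sub, ev2_tmul, t1]
    simp only [map_sub, ev1_tmul, rmul_tmul, act_tmul, Algebra.TensorProduct.lift_tmul, map_one, mul_one, one_mul,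
      TensorProduct.tmul_sub, mul_apply_lift]
    abel

/-- **degree `2`**: `(d z)(g, h, l) = g · z(h, l) - z(g h, l) + z(g, h l) - z(g, h)` -/
theorem ev3_d (g h l : WithConv (A →ₐ[k] B)) (z : (M ⊗[k] A) ⊗[k] A) :
    ev3 (k := k) M g.ofConv h.ofConv l.ofConv (Hoch.d k A M 2 z) =
      act M g.ofConv (ev2 M h.ofConv l.ofConv z) - ev2 M (g * h).ofConv l.ofConv z +
        ev2 M g.ofConv (h * l).ofConv z - ev2 M g.ofConv h.ofConv z := by
  induction z using TensorProduct.induction_on with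
  | zero => simp
  | add x y hx hy =>
    rw [map_add, map_add, hx, hy]; simp only [map_add]; abel
  | tmul x a =>
    have e : (Hoch.d k A M 2 (x ⊗ₜ[k] a) : ((M ⊗[k] A) ⊗[k] A) ⊗[k] A) =
        (Hoch.d k A M 1 x : (M ⊗[k] A) ⊗[k] A) ⊗ₜ a +
          (TensorProduct.assoc k (M ⊗[k] A) A A).symm
            (x ⊗ₜ (Coalgebra.comul (R := k) a - a ⊗ₜ 1 - 1 ⊗ₜ a)) := by
      change (Hoch.d k A M 1).rTensor A (x ⊗ₜ[k] a) + ((-1 : k) ^ (1 + 1)) • Hoch.tail k A (M ⊗[k] A) (x ⊗ₜ[k] a) = _
      have e1 : ((-1 : k) ^ (1 + 1)) = 1 := by norm_num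
      rw [LinearMap.rTensor_tmul, Hoch.tail_tmul, e1]
      congr 1
      exact one_smul k _
    have t1 : ∀ t : A ⊗[k] A, ev3 (k := k) M g.ofConv h.ofConv l.ofConv
        ((TensorProduct.assoc k (M ⊗[k] A) A A).symm (x ⊗ₜ t)) =
        rmul M (Algebra.TensorProduct.lift h.ofConv l.ofConv (fun _ _ => .all ..) t) (ev1 M g.ofConv x) := by
      intro t
      rw [ev3, ev2, evS_evS_assoc]
    rw [e, map_add, ev3_tmul, ev2_d, t1]
    simp only [map_sub, map_add, ev2_tmul, act_rmul, Algebra.TensorProduct.lift_tmul, map_one, mul_one, one_mul,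
      mul_apply_lift]
    simp only [← rmulL_apply, map_sub]
    abel

end Basic

end Groth.Agent.ResProp.EF.K778
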