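import Groth.Agent.ResProp.EF.K778.Ev
import Groth.Agent.ResProp.EF.K208.Pts
import Groth.Agent.ResProp.EF.K104.Iface

/-!
# `Grp.Kill H → TowerMod W → K104.Kill W (AdmF H)` (G5, node B4; helper778)

The killing lemma for comodules (`Grp.Kill`) gives the killing lemma for the graded pieces of a tower of group
functors, as soon as these graded pieces are the functors of points of comodules (`TowerMod`).
-/

set_option autoImplicit false

universe u w

open TensorProduct WithConv

noncomputable section

namespace Groth.Agent.ResProp.EF.K778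

open Groth.Agent.ResProp.EF.Grp Groth.Agent.ResProp.EF.K104
open Groth.Agent.ResProp.EF.K208 (pts ptsHom)

variable {k : Type u} [CommRing k]

section Nat

variable {M N : Type u} [AddCommGroup M] [Module k M] [AddCommGroup N] [Module k N]
  {A A' : Type u} [CommRing A] [Bialgebra k A] [CommRing A'] [Bialgebra k A']
  {B C : Type u} [CommRing B] [Algebra k B] [CommRing C] [Algebra k C]

theorem map_rmul (f : M →ₗ[k] N) (b : B) (x : M ⊗[k] B) :
    f.rTensor B (rmul M b x) = rmul N b (f.rTensor B x) := by
  induction x using TensorProduct.induction_on with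
  | zero => simp
  | add x y hx hy => simp only [map_add, hx, hy]
  | tmul m b => rfl

theorem map_ev1 (f : M →ₗ[k] N) (g : A →ₐ[k] B) (x : M ⊗[k] A) :
    f.rTensor B (ev1 M g x) = ev1 N g (f.rTensor A x) := by
  induction x using TensorProduct.induction_on with
  | zero => simp
  | add x y hx hy => simp only [map_add, hx, hy]
  | tmul m b => simp

theorem map_ev2 (f : M →ₗ[k] N) (g h : A →ₐ[k] B) (x : (M ⊗[k] A) ⊗[k] A) :
    f.rTensor B (ev2 M g h x) = ev2 N g h ((f.rTensor A).rTensor A x) := by
  induction x using TensorProduct.induction_on with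
  | zero => simp
  | add x y hx hy => simp only [map_add, hx, hy]
  | tmul m b => simp only [ev2_tmul, LinearMap.rTensor_tmul, map_rmul, map_ev1]

theorem map_act [HopfRep.Comod k A M] [HopfRep.Comod k A N] (f : M →ₗ[k] N) (hf : Hoch.IsComodHom A f)
    (g : A →ₐ[k] B) (x : M ⊗[k] B) : f.rTensor B (act M g x) = act N g (f.rTensor B x) := by
  induction x using TensorProduct.induction_on with
  | zero => simp
  | add x y hx hy => simp only [map_add, hx, hy]
  | tmul m b =>
    have h := LinearMap.congr_fun hf m
    simp only [LinearMap.comp_apply] at h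
    rw [act_tmul, map_rmul, map_ev1, LinearMap.rTensor_tmul, act_tmul, rho, h]

theorem lT_rmul (f : B →ₐ[k] C) (b : B) (x : M ⊗[k] B) :
    f.toLinearMap.lTensor M (rmul M b x) = rmul M (f b) (f.toLinearMap.lTensor M x) := by
  induction x using TensorProduct.induction_on with
  | zero => simp
  | add x y hx hy => simp only [map_add, hx, hy]
  | tmul m b => simp

theorem lT_ev1 (f : B →ₐ[k] C) (g : A →ₐ[k] B) (x : M ⊗[k] A) :
    f.toLinearMap.lTensor M (ev1 M g x) = ev1 M (f.comp g) x := by
  induction x using TensorProduct.induction_on with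
  | zero => simp
  | add x y hx hy => simp only [map_add, hx, hy]
  | tmul m b => simp

theorem lT_ev2 (f : B →ₐ[k] C) (g h : A →ₐ[k] B) (x : (M ⊗[k] A) ⊗[k] A) :
    f.toLinearMap.lTensor M (ev2 M g h x) = ev2 M (f.comp g) (f.comp h) x := by
  induction x using TensorProduct.induction_on with
  | zero => simp
  | add x y hx hy => simp only [map_add, hx, hy]
  | tmul m b => simp [lT_rmul, lT_ev1]

theorem ev1_map (φ : A →ₐ[k] A') (g : A' →ₐ[k] B) (x : M ⊗[k] A) :
    ev1 M g (φ.toLinearMap.lTensor M x) = ev1 M (g.comp φ) x := by
  induction x using TensorProduct.induction_on with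
  | zero => simp
  | add x y hx hy => simp only [map_add, hx, hy]
  | tmul m b => simp

theorem ev2_map (φ : A →ₐ[k] A') (g h : A' →ₐ[k] B) (x : (M ⊗[k] A) ⊗[k] A) :
    ev2 M g h (TensorProduct.map (φ.toLinearMap.lTensor M) φ.toLinearMap x) = ev2 M (g.comp φ) (h.comp φ) x := by
  induction x using TensorProduct.induction_on with
  | zero => simp
  | add x y hx hy => simp only [map_add, hx, hy]
  | tmul m b => simp [ev1_map]

/-- the universal pair of points -/
theorem ev2_univ (z : (M ⊗[k] A) ⊗[k] A) :
    ev2 M (Algebra.TensorProduct.includeLeft : A →ₐ[k] A ⊗[k] A) Algebra.TensorProduct.includeRight z =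
      TensorProduct.assoc k M A A z := by
  induction z using TensorProduct.induction_on with
  | zero => simp
  | add x y hx hy => simp only [map_add, hx, hy]
  | tmul x b =>
    induction x using TensorProduct.induction_on with
    | zero => simp
    | add x y hx hy => simp only [TensorProduct.add_tmul, map_add, hx, hy]
    | tmul m a => simp

/-- the universal triple of points -/
theorem ev3_univ_injective : Function.Injective
    (ev3 (k := k) M (A := A) (B := (A ⊗[k] A) ⊗[k] A)
      ((Algebra.TensorProduct.includeLeft : (A ⊗[k] A) →ₐ[k] (A ⊗[k] A) ⊗[k] A).comp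
        (Algebra.TensorProduct.includeLeft : A →ₐ[k] A ⊗[k] A))
      ((Algebra.TensorProduct.includeLeft : (A ⊗[k] A) →ₐ[k] (A ⊗[k] A) ⊗[k] A).comp
        (Algebra.TensorProduct.includeRight : A →ₐ[k] A ⊗[k] A))
      (Algebra.TensorProduct.includeRight : A →ₐ[k] (A ⊗[k] A) ⊗[k] A)) := by
  have h : ∀ w, ev3 (k := k) M (A := A) (B := (A ⊗[k] A) ⊗[k] A)
      ((Algebra.TensorProduct.includeLeft : (A ⊗[k] A) →ₐ[k] (A ⊗[k] A) ⊗[k] A).comp
        (Algebra.TensorProduct.includeLeft : A →ₐ[k] A ⊗[k] A))
      ((Algebra.TensorProduct.includeLeft : (A ⊗[k] A) →ₐ[k] (A ⊗[k] A) ⊗[k] A).comp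
        (Algebra.TensorProduct.includeRight : A →ₐ[k] A ⊗[k] A))
      (Algebra.TensorProduct.includeRight : A →ₐ[k] (A ⊗[k] A) ⊗[k] A) w =
      (TensorProduct.assoc k M (A ⊗[k] A) A)
        ((TensorProduct.congr (TensorProduct.assoc k M A A) (LinearEquiv.refl k A)) w) := by
    intro w
    induction w using TensorProduct.induction_on with
    | zero => simp
    | add x y hx hy => simp only [map_add, hx, hy]
    | tmul z c =>
      induction z using TensorProduct.induction_on with
      | zero => simp
      | add x y hx hy => simp only [TensorProduct.add_tmul, map_add, hx, hy]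
      | tmul x b =>
        induction x using TensorProduct.induction_on with
        | zero => simp
        | add x y hx hy => simp only [TensorProduct.add_tmul, map_add, hx, hy]
        | tmul m a => simp
  intro x y hxy
  rw [h, h] at hxy
  exact (TensorProduct.congr (TensorProduct.assoc k M A A) (LinearEquiv.refl k A)).injective
    ((TensorProduct.assoc k M (A ⊗[k] A) A).injective hxy)

end Nat

section GMod

variable {E : Gp k} {B : Type u} [CommRing B] [Algebra k B]

/-- action of a point on `M ⊗ B` -/
def gact (M : GMod E) (g : WithConv (E.O →ₐ[k] B)) : M.V ⊗[k] B →ₗ[k] M.V ⊗[k] B :=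
  act (A := E.O) M.V g.ofConv

theorem gact_res {E' : Gp k} (φ : E.O →ₐc[k] E'.O) (M : GMod E) (g : WithConv (E'.O →ₐ[k] B))
    (x : M.V ⊗[k] B) :
    gact (M.res φ) g x = gact M (toConv (g.ofConv.comp (φ : E.O →ₐ[k] E'.O))) x := by
  induction x using TensorProduct.induction_on with
  | zero => simp
  | add x y hx hy => simp only [map_add, hx, hy]
  | tmul m b =>
    change rmul M.V b (ev1 M.V g.ofConv (TensorProduct.map LinearMap.id (φ : E.O →ₗ[k] E'.O) (rho M.V m))) =
      rmul M.V b (ev1 M.V (g.ofConv.comp (φ : E.O →ₐ[k] E'.O)) (rho M.V m))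
    rw [← ev1_map]
    rfl

theorem gact_actM (M : GMod E) (g : WithConv (E.O →ₐ[k] B)) (x : M.V ⊗[k] B) :
    K208.actM (HopfRep.Comod.coact (k := k) (A := E.O) (V := M.V)) g x = gact M g x := by
  have h1 : ∀ y : M.V ⊗[k] E.O, K208.ev1 g y = ev1 M.V g.ofConv y := by
    intro y
    induction y using TensorProduct.induction_on with
    | zero => simp
    | add x y hx hy => simp only [map_add, hx, hy]
    | tmul m b => simp
  have h2 : ∀ (y : M.V ⊗[k] B) (b : B), K208.mulB (k := k) M.V B (y ⊗ₜ b) = rmul M.V b y := by
    intro y b
    induction y using TensorProduct.induction_on with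
    | zero => simp
    | add x y hx hy => simp only [TensorProduct.add_tmul, map_add, hx, hy]
    | tmul m b => simp
  induction x using TensorProduct.induction_on with
  | zero => simp
  | add x y hx hy => simp only [map_add, hx, hy]
  | tmul m b =>
    rw [K208.actM_tmul, h1, h2]
    rfl

/-- tensor products commute with restriction: the actions of points agree -/
theorem gact_tens_res {E' : Gp k} (φ : E.O →ₐc[k] E'.O) (M N : GMod E) (g : WithConv (E'.O →ₐ[k] B))
    (x : (M.V ⊗[k] N.V) ⊗[k] B) :
    gact ((M.res φ).tens (N.res φ)) g x =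
      gact (M.tens N) (toConv (g.ofConv.comp (φ : E.O →ₐ[k] E'.O))) x := by
  have key : ∀ y : M.V ⊗[k] N.V,
      (ComodTens.Comod.tensor (M.res φ).co (N.res φ).co).coact y =
        (φ : E.O →ₐ[k] E'.O).toLinearMap.lTensor (M.V ⊗[k] N.V) ((ComodTens.Comod.tensor M.co N.co).coact y) := by
    intro y
    induction y using TensorProduct.induction_on with
    | zero => simp
    | add x y hx hy => simp only [map_add, hx, hy]
    | tmul m n =>
      rw [ComodTens.tensor_coact_tmul, ComodTens.tensor_coact_tmul]
      change TensorProduct.map LinearMap.id (LinearMap.mul' k E'.O)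
        (AlgebraTensorModule.tensorTensorTensorComm k k k k M.V E'.O N.V E'.O
          ((TensorProduct.map LinearMap.id (φ : E.O →ₗ[k] E'.O) (M.co.coact m)) ⊗ₜ[k]
            (TensorProduct.map LinearMap.id (φ : E.O →ₗ[k] E'.O) (N.co.coact n)))) = _
      generalize M.co.coact m = a
      generalize N.co.coact n = b
      induction a using TensorProduct.induction_on with
      | zero => simp
      | add x y hx hy => simp only [map_add, TensorProduct.add_tmul, hx, hy]
      | tmul m' a' =>
        induction b using TensorProduct.induction_on with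
        | zero => simp
        | add x y hx hy => simp only [map_add, TensorProduct.tmul_add, hx, hy]
        | tmul n' b' =>
          simp
  induction x using TensorProduct.induction_on with
  | zero => simp
  | add x y hx hy => simp only [map_add, hx, hy]
  | tmul m b =>
    change rmul _ b (ev1 _ g.ofConv ((ComodTens.Comod.tensor (M.res φ).co (N.res φ).co).coact m)) =
      rmul _ b (ev1 _ (g.ofConv.comp (φ : E.O →ₐ[k] E'.O)) ((ComodTens.Comod.tensor M.co N.co).coact m))
    rw [key, ev1_map]

end GMod

end Groth.Agent.ResProp.EF.K778
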